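import Mathlib
import Cfsg.Agent.Lib.Helper86.PSUFusN
import Cfsg.Agent.Lib.Helper72.Lie2Gen

/-!
# S4625-[M-PSU] (helper66): squares of a Sylow 2-subgroup of `PSU_n(q)`, `q` even, lie in its derived subgroup

`UJ` (helper86's unitriangular subgroup of `SU` in a Witt frame) is generated by the Siegel elements
`sS (b_k) w c` centred at the frame vectors of the first half; in characteristic 2 the square of such an element is
`sS (b_k) 0 (h(w,w))`, which is the commutator of `sS (b_k) w c` with `sS (b_k) (μ w) c₂` for `σ μ - μ = 1`.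
-/

set_option autoImplicit false
set_option linter.unusedSectionVars false

namespace Cfsg.Agent.Lib.Helper66.Lie2

open scoped commutatorElement

open Matrix Cfsg.Agent.S0837 Cfsg.Agent.S0781 Cfsg.Agent.S2644 Cfsg.Agent.Lib.Helper37
  Cfsg.Agent.Lib.Helper45.PSUAut Cfsg.Agent.Lib.Helper45.PSLAut
  Cfsg.Agent.Lib.Helper86.PSUFus Cfsg.Agent.Lib.Helper72.Lie2

variable {F : Type*} [Field F] [Fintype F] {q n : ℕ} {σ : F →+* F}
  {P : Matrix (Fin n) (Fin n) F}

/-- additive Hilbert 90 for the involution `σ` (as in helper45's `Forms.exists_sub_eq`) -/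
theorem exists_sub_eq' (hS : Frob σ q) {m : F} (hm : m + σ m = 0) : ∃ l : F, l - σ l = m := by
  obtain ⟨t, ht⟩ := hS.exists_ne
  have hd : t - σ t ≠ 0 := fun h => ht (sub_eq_zero.mp h).symm
  have hsm : σ m = -m := by linear_combination hm
  refine ⟨m * t / (t - σ t), ?_⟩
  rw [map_div₀, map_mul, map_sub, hS.invol, hsm]
  have hd' : σ t - t ≠ 0 := fun h => ht (sub_eq_zero.mp h)
  field_simp
  ring

/-- `UJ` is generated by its Siegel elements centred at the frame vectors of the first half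
(the proof of helper86's `UJ_le_of_sS_mem` uses only those) -/
theorem UJ_le_of_frame_sS_mem (hW : WF σ P) (hS : Frob σ q) {T' : Subgroup ↥(Cfsg.SU n F q)}
    (hsS : ∀ (kk : Fin n) (w : Fin n → F) (c : F), kk.val < (Fin.rev kk).val →
      SV σ (bb P kk) w c → sS hS (bb P kk) w c ∈ UJ hW → sS hS (bb P kk) w c ∈ T') :
    UJ hW ≤ T' := by
  have key : ∀ (d k : ℕ), d + k = n / 2 → ∀ g : ↥(Cfsg.SU n F q), g ∈ UJ hW → FixK P k g →
      g ∈ T' := by
    intro d
    induction d with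
    | zero =>
      intro k hk g hg hfix
      rw [eq_one_of_fixK hW hS hg hfix (by omega)]
      exact one_mem _
    | succ d ih =>
      intro k hk g hg hfix
      set kk : Fin n := ⟨k, by omega⟩ with hkk
      have hkv : kk.val = k := rfl
      have hlt : kk.val < (Fin.rev kk).val := by
        rw [Fin.val_rev, hkv]
        omega
      obtain ⟨w, c, hv, hsU, hfix'⟩ := exists_layer hW hS hg (kk := kk) hfix hlt
      have h1 := hsS kk w c hlt hv hsU
      have h2 := ih (k + 1) (by omega) _ (mul_mem (inv_mem hsU) hg) hfix'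
      have : g = sS hS (bb P kk) w c * ((sS hS (bb P kk) w c)⁻¹ * g) := by
        rw [mul_inv_cancel_left]
      rw [this]
      exact mul_mem h1 h2
  intro g hg
  exact key (n / 2) 0 (by omega) g hg (fun i hi => absurd hi (Nat.not_lt_zero _))

/-- the parameter `w` of a Siegel element of `UJ` centred at `b_k` lies in `V_{rev k}` -/
theorem inV_of_sS_mem_UJ (hW : WF σ P) (hS : Frob σ q) {kk : Fin n}
    (hlt : kk.val < (Fin.rev kk).val) {w : Fin n → F} {c : F} (hv : SV σ (bb P kk) w c)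
    (hU : sS hS (bb P kk) w c ∈ UJ hW) : InV σ P (Fin.rev kk).val w := by
  have h1 := inV_of_mem_UJ hW hU (Fin.rev kk)
  rw [sS_mulVec hS hv] at h1
  have hg : hf σ (bb P (Fin.rev kk)) (bb P kk) = 1 := by
    rw [hW.gram_bb, if_pos (Fin.rev_rev kk).symm]
  rw [hg, one_smul] at h1
  have hb : InV σ P (Fin.rev kk).val (bb P kk) := hW.inV_bb_of_lt hlt
  have e1 : w = (bb P (Fin.rev kk) + (w + c • bb P kk) - hf σ (bb P (Fin.rev kk)) w • bb P kk
      - bb P (Fin.rev kk)) - c • bb P kk + hf σ (bb P (Fin.rev kk)) w • bb P kk := by abel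
  rw [e1]
  exact (h1.sub (hb.smul c)).add (hb.smul _)

/-- in characteristic 2 the square of a Siegel element of `UJ` centred at a frame vector is a commutator -/
theorem sS_sq_mem_commutator [CharP F 2] (hW : WF σ P) (hS : Frob σ q) {kk : Fin n}
    (hlt : kk.val < (Fin.rev kk).val) {w : Fin n → F} {c : F} (hv : SV σ (bb P kk) w c)
    (hU : sS hS (bb P kk) w c ∈ UJ hW) :
    (sS hS (bb P kk) w c) ^ 2 ∈ ⁅UJ (q := q) hW, UJ (q := q) hW⁆ := by
  have hInV := inV_of_sS_mem_UJ hW hS hlt hv hU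
  have hσh₀ : σ (hf σ w w) = hf σ w w := (hf_symm σ hS.invol w w).symm
  have two : ∀ x : F, x + x = 0 := CharTwo.add_self_eq_zero
  have hneg : ∀ x : F, -x = x := CharTwo.neg_eq
  -- the square
  have hsq : (sS hS (bb P kk) w c) ^ 2 = sS hS (bb P kk) 0 (hf σ w w) := by
    rw [pow_two, sS_mul hS hv hv]
    have h1 : w + w = 0 := by
      ext i
      simp [two]
    have h2 : c + c - hf σ w w = hf σ w w := by rw [two, zero_sub, hneg]
    rw [h1, h2]
  -- the multiplier
  obtain ⟨l, hl⟩ := exists_sub_eq' hS (m := (1 : F)) (by rw [map_one]; exact two 1)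
  obtain ⟨μ, hμ1⟩ : ∃ μ : F, σ μ - μ = 1 := ⟨σ l, by rw [hS.invol]; exact hl⟩
  -- the second Siegel element
  have hσν : σ (μ * σ μ * hf σ w w) = μ * σ μ * hf σ w w := by
    rw [map_mul, map_mul, hS.invol, hσh₀, mul_comm (σ μ) μ]
  have hν : -(μ * σ μ * hf σ w w) + σ (-(μ * σ μ * hf σ w w)) = 0 := by
    rw [map_neg, hσν, hneg]
    exact two _
  obtain ⟨c₂, hc₂⟩ := exists_sub_eq' hS hν
  have hv₂ : SV σ (bb P kk) (μ • w) c₂ := by
    refine ⟨hv.iso, ?_, ?_⟩
    · rw [hf_smul_left, hv.perp, mul_zero]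
    · rw [hf_smul_left, hf_smul_right]
      have h3 : c₂ + σ c₂ = c₂ - σ c₂ := by rw [sub_eq_add_neg, hneg]
      rw [h3, hc₂]
      ring
  have hU₂ : sS hS (bb P kk) (μ • w) c₂ ∈ UJ hW := sS_mem_UJ hW hS hlt (hInV.smul μ) hv₂
  -- the commutator
  have hvt : SV σ (bb P kk) 0 (hf σ w w) := by
    refine ⟨hv.iso, hf_zero_left σ _, ?_⟩
    rw [hf_zero_left, add_zero, hσh₀]
    exact two _
  have h12 : sS hS (bb P kk) w c * sS hS (bb P kk) (μ • w) c₂
      = sS hS (bb P kk) (w + μ • w) (c + c₂ - hf σ (μ • w) w) := sS_mul hS hv hv₂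
  have h21 : sS hS (bb P kk) (μ • w) c₂ * sS hS (bb P kk) w c
      = sS hS (bb P kk) (μ • w + w) (c₂ + c - hf σ w (μ • w)) := sS_mul hS hv₂ hv
  have h21t : sS hS (bb P kk) (μ • w) c₂ * sS hS (bb P kk) w c * sS hS (bb P kk) 0 (hf σ w w)
      = sS hS (bb P kk) w c * sS hS (bb P kk) (μ • w) c₂ := by
    rw [h21, sS_mul hS (hv₂.mul hS hv) hvt, h12]
    have e1 : μ • w + w + 0 = w + μ • w := by abel
    have e2 : c₂ + c - hf σ w (μ • w) + hf σ w w - hf σ (0 : Fin n → F) (μ • w + w)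
        = c + c₂ - hf σ (μ • w) w := by
      rw [hf_zero_left, hf_smul_right, hf_smul_left]
      linear_combination (-(hf σ w w)) * hμ1
    rw [e1, e2]
  have hcomm : sS hS (bb P kk) 0 (hf σ w w)
      = ⁅(sS hS (bb P kk) w c)⁻¹, (sS hS (bb P kk) (μ • w) c₂)⁻¹⁆ := by
    rw [commutatorElement_def, inv_inv, inv_inv, mul_assoc (_⁻¹ * _⁻¹), ← h21t]
    group
  rw [hsq, hcomm]
  exact Subgroup.commutator_mem_commutator (inv_mem hU) (inv_mem hU₂)

theorem sqComm_UJ [CharP F 2] (hW : WF σ P) (hS : Frob σ q) : SqComm (UJ (q := q) hW) := by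
  apply sqComm_of_closure (UJ hW) {s | s ∈ UJ hW ∧ ∃ (kk : Fin n) (w : Fin n → F) (c : F),
    kk.val < (Fin.rev kk).val ∧ SV σ (bb P kk) w c ∧ s = sS hS (bb P kk) w c}
  · apply le_antisymm
    · rw [Subgroup.closure_le]
      intro s hs
      exact hs.1
    · apply UJ_le_of_frame_sS_mem hW hS
      intro kk w c hlt hv hU
      exact Subgroup.subset_closure ⟨hU, kk, w, c, hlt, hv, rfl⟩
  · rintro s ⟨hU, kk, w, c, hlt, hv, rfl⟩
    exact sS_sq_mem_commutator hW hS hlt hv hU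

theorem sqComm_PSU {F : Type} [Field F] [Fintype F] [CharP F 2] (n q : ℕ)
    (hF : Fintype.card F = q ^ 2) (hn : 3 ≤ n)
    (P : Sylow 2 (Cfsg.PSU n F q)) : SqComm (P : Subgroup (Cfsg.PSU n F q)) := by
  have : Fact (Nat.Prime 2) := ⟨Nat.prime_two⟩
  obtain ⟨σ, hS⟩ := exists_frob hF
  obtain ⟨M, hW⟩ := exists_WF (n := n) hS
  obtain ⟨S₀, hS₀⟩ := exists_sylow_eq_UBar hW hS hF (by omega) 2
  have h1 : SqComm (S₀ : Subgroup (Cfsg.PSU n F q)) := by
    rw [hS₀]
    exact sqComm_map (prjU n F q) (UJ hW) (sqComm_UJ hW hS)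
  exact sqComm_all_sylow_of_one S₀ h1 P

end Cfsg.Agent.Lib.Helper66.Lie2
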